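import Groth.Prelude.Def_AlgSpGpd

/-!
Calculus of composition in a groupoid of spaces, the shear squares and conjugation of the stabilizer.
-/

set_option autoImplicit false
universe u

open AlgebraicGeometry CategoryTheory Limits

namespace L02.GrpdSp

variable {S : Scheme.{u}} {B : AlgSp.Sp S} (G : AlgSp.GroupoidSp B) {T T' : AlgSp.Sp S}

attribute [local simp] AlgSp.GroupoidSp.i_s AlgSp.GroupoidSp.i_t

/-- Composition of two arrows with values in a scheme. -/
noncomputable def mul (α β : T ⟶ G.R) (h : α ≫ G.s = β ≫ G.t) : T ⟶ G.R :=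
  pullback.lift α β h ≫ G.c

theorem mul_congr {α α' β β' : T ⟶ G.R} (hα : α = α') (hβ : β = β') (h : α ≫ G.s = β ≫ G.t)
    (h' : α' ≫ G.s = β' ≫ G.t) : mul G α β h = mul G α' β' h' := by
  subst hα hβ; rfl

theorem comp_mul (f : T' ⟶ T) (α β : T ⟶ G.R) (h : α ≫ G.s = β ≫ G.t) :
    f ≫ mul G α β h = mul G (f ≫ α) (f ≫ β) (by rw [Category.assoc, Category.assoc, h]) := by
  rw [mul, mul, ← Category.assoc]
  congr 1
  apply pullback.hom_ext <;> simp only [Category.assoc, pullback.lift_fst, pullback.lift_snd]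

theorem c_eq : mul G (pullback.fst G.s G.t) (pullback.snd G.s G.t) pullback.condition = G.c := by
  rw [mul]
  convert Category.id_comp G.c
  apply pullback.hom_ext <;> simp

@[simp] theorem mul_s (α β : T ⟶ G.R) (h : α ≫ G.s = β ≫ G.t) : mul G α β h ≫ G.s = β ≫ G.s :=
  G.comp_s α β h

@[simp] theorem mul_t (α β : T ⟶ G.R) (h : α ≫ G.s = β ≫ G.t) : mul G α β h ≫ G.t = α ≫ G.t :=
  G.comp_t α β h

theorem mul_assoc' (α β γ : T ⟶ G.R) (h₁ : α ≫ G.s = β ≫ G.t) (h₂ : β ≫ G.s = γ ≫ G.t) :
    mul G (mul G α β h₁) γ ((mul_s G α β h₁).trans h₂) =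
      mul G α (mul G β γ h₂) (h₁.trans (mul_t G β γ h₂).symm) :=
  G.assoc α β γ h₁ h₂

@[simp] theorem inv_s (α : T ⟶ G.R) : (α ≫ G.i) ≫ G.s = α ≫ G.t := by rw [Category.assoc, G.i_s]

@[simp] theorem inv_t (α : T ⟶ G.R) : (α ≫ G.i) ≫ G.t = α ≫ G.s := by rw [Category.assoc, G.i_t]

theorem cancel_left (α β : T ⟶ G.R) (h : α ≫ G.s = β ≫ G.t) :
    mul G (α ≫ G.i) (mul G α β h) (by simp) = β := by
  rw [← mul_assoc' G (α ≫ G.i) α β (inv_s G α) h]
  refine (mul_congr G ((G.i_comp α).trans ?_) rfl _ ?_).trans (G.e_comp β)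
  · rw [← Category.assoc, h, Category.assoc]
  · rw [Category.assoc, Category.assoc, G.e_s, Category.comp_id]

theorem cancel_left' (α β : T ⟶ G.R) (h : α ≫ G.t = β ≫ G.t) :
    mul G α (mul G (α ≫ G.i) β ((inv_s G α).trans h)) (by simp) = β := by
  rw [← mul_assoc' G α (α ≫ G.i) β (inv_t G α).symm ((inv_s G α).trans h)]
  refine (mul_congr G ((G.comp_i α).trans ?_) rfl _ ?_).trans (G.e_comp β)
  · rw [← Category.assoc, h, Category.assoc]
  · rw [Category.assoc, Category.assoc, G.e_s, Category.comp_id]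

theorem cancel_right (α β : T ⟶ G.R) (h : α ≫ G.s = β ≫ G.t) :
    mul G (mul G α β h) (β ≫ G.i) (by simp) = α := by
  rw [mul_assoc' G α β (β ≫ G.i) h (inv_t G β).symm]
  refine (mul_congr G rfl ((G.comp_i β).trans ?_) _ ?_).trans (G.comp_e α)
  · rw [← Category.assoc, ← h, Category.assoc]
  · rw [Category.assoc, Category.assoc, G.e_t, Category.comp_id]

theorem cancel_right' (α β : T ⟶ G.R) (h : α ≫ G.s = β ≫ G.s) :
    mul G (mul G α (β ≫ G.i) (h.trans (inv_t G β).symm)) β (by simp) = α := by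
  rw [mul_assoc' G α (β ≫ G.i) β (h.trans (inv_t G β).symm) (inv_s G β)]
  refine (mul_congr G rfl ((G.i_comp β).trans ?_) _ ?_).trans (G.comp_e α)
  · rw [← Category.assoc, ← h, Category.assoc]
  · rw [Category.assoc, Category.assoc, G.e_t, Category.comp_id]

/-- `(α, β) ↦ (α ∘ β, β)` identifies composable pairs with pairs of the same source. -/
theorem isPullback_c_snd : IsPullback G.c (pullback.snd G.s G.t) G.s G.s := by
  refine IsPullback.of_isLimit' ⟨by rw [← c_eq, mul_s]⟩ (PullbackCone.IsLimit.mk _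
    (fun c => pullback.lift (mul G c.fst (c.snd ≫ G.i) (c.condition.trans (inv_t G c.snd).symm)) c.snd (by simp))
    ?_ ?_ ?_)
  · intro c
    rw [← c_eq, comp_mul]
    exact (mul_congr G (pullback.lift_fst _ _ _) (pullback.lift_snd _ _ _) _ (by simp)).trans
      (cancel_right' G c.fst c.snd c.condition)
  · intro c
    exact pullback.lift_snd _ _ _
  · intro c m hm₁ hm₂
    apply pullback.hom_ext
    · rw [pullback.lift_fst]
      have h := cancel_right G (m ≫ pullback.fst G.s G.t) (m ≫ pullback.snd G.s G.t)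
        (by rw [Category.assoc, Category.assoc, pullback.condition])
      refine h.symm.trans (mul_congr G ?_ ?_ _ _)
      · rw [← comp_mul G m _ _ pullback.condition, c_eq, hm₁]
      · rw [hm₂]
    · rw [pullback.lift_snd, hm₂]

/-- `(α, β) ↦ (α ∘ β, α)` identifies composable pairs with pairs of the same target. -/
theorem isPullback_c_fst : IsPullback G.c (pullback.fst G.s G.t) G.t G.t := by
  refine IsPullback.of_isLimit' ⟨by rw [← c_eq, mul_t]⟩ (PullbackCone.IsLimit.mk _
    (fun c => pullback.lift c.snd (mul G (c.snd ≫ G.i) c.fst ((inv_s G c.snd).trans c.condition.symm)) (by simp))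
    ?_ ?_ ?_)
  · intro c
    rw [← c_eq, comp_mul]
    exact (mul_congr G (pullback.lift_fst _ _ _) (pullback.lift_snd _ _ _) _ (by simp)).trans
      (cancel_left' G c.snd c.fst c.condition.symm)
  · intro c
    exact pullback.lift_fst _ _ _
  · intro c m hm₁ hm₂
    apply pullback.hom_ext
    · rw [pullback.lift_fst, hm₂]
    · rw [pullback.lift_snd]
      have h := cancel_left G (m ≫ pullback.fst G.s G.t) (m ≫ pullback.snd G.s G.t)
        (by rw [Category.assoc, Category.assoc, pullback.condition])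
      refine h.symm.trans (mul_congr G ?_ ?_ _ _)
      · rw [hm₂]
      · rw [← comp_mul G m _ _ pullback.condition, c_eq, hm₁]

/-- The inclusion of the stabilizer into the arrows. -/
noncomputable def stabι : G.stabilizer ⟶ G.R := pullback.fst G.j G.diag

@[simp] theorem stabι_t : stabι G ≫ G.t = G.stabilizerToU := by
  have h := congrArg (· ≫ pullback.fst G.pU G.pU) (pullback.condition (f := G.j) (g := G.diag))
  have hj : G.j ≫ pullback.fst G.pU G.pU = G.t := pullback.lift_fst _ _ _
  have hd : G.diag ≫ pullback.fst G.pU G.pU = 𝟙 G.U := pullback.lift_fst _ _ _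
  simp only [Category.assoc, hj, hd, Category.comp_id] at h
  exact h

@[simp] theorem stabι_s : stabι G ≫ G.s = G.stabilizerToU := by
  have h := congrArg (· ≫ pullback.snd G.pU G.pU) (pullback.condition (f := G.j) (g := G.diag))
  have hj : G.j ≫ pullback.snd G.pU G.pU = G.s := pullback.lift_snd _ _ _
  have hd : G.diag ≫ pullback.snd G.pU G.pU = 𝟙 G.U := pullback.lift_snd _ _ _
  simp only [Category.assoc, hj, hd, Category.comp_id] at h
  exact h

theorem stab_ext {k l : T ⟶ G.stabilizer} (h : k ≫ stabι G = l ≫ stabι G) : k = l :=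
  pullback.hom_ext h (by
    have := congrArg (· ≫ G.s) h
    simp only [Category.assoc, stabι_s] at this
    exact this)

/-- An arrow with equal source and target as a point of the stabilizer. -/
noncomputable def stabLift (γ : T ⟶ G.R) (h : γ ≫ G.t = γ ≫ G.s) : T ⟶ G.stabilizer :=
  pullback.lift γ (γ ≫ G.s) (by
    have hj₁ : G.j ≫ pullback.fst G.pU G.pU = G.t := pullback.lift_fst _ _ _
    have hj₂ : G.j ≫ pullback.snd G.pU G.pU = G.s := pullback.lift_snd _ _ _
    have hd₁ : G.diag ≫ pullback.fst G.pU G.pU = 𝟙 G.U := pullback.lift_fst _ _ _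
    have hd₂ : G.diag ≫ pullback.snd G.pU G.pU = 𝟙 G.U := pullback.lift_snd _ _ _
    apply pullback.hom_ext <;> simp only [Category.assoc, hj₁, hj₂, hd₁, hd₂, Category.comp_id, h])

@[simp] theorem stabLift_ι (γ : T ⟶ G.R) (h : γ ≫ G.t = γ ≫ G.s) : stabLift G γ h ≫ stabι G = γ :=
  pullback.lift_fst _ _ _

theorem stabLift_toU (γ : T ⟶ G.R) (h : γ ≫ G.t = γ ≫ G.s) : stabLift G γ h ≫ G.stabilizerToU = γ ≫ G.s := by
  rw [← stabι_s, ← Category.assoc, stabLift_ι]

/-- `(g, r) ↦ r ∘ g ∘ r⁻¹`. -/
noncomputable def conj : pullback G.stabilizerToU G.s ⟶ G.stabilizer :=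
  stabLift G (mul G (mul G (pullback.snd G.stabilizerToU G.s) (pullback.fst G.stabilizerToU G.s ≫ stabι G)
      (by rw [Category.assoc, stabι_t, pullback.condition])) (pullback.snd G.stabilizerToU G.s ≫ G.i)
      (by rw [mul_s, inv_t, Category.assoc, stabι_s, pullback.condition])) (by simp)

theorem isPullback_conj : IsPullback (conj G) (pullback.snd G.stabilizerToU G.s) G.stabilizerToU G.t := by
  have hx : ∀ c : PullbackCone G.stabilizerToU G.t, (c.fst ≫ stabι G) ≫ G.t = c.snd ≫ G.t ∧
      (c.fst ≫ stabι G) ≫ G.s = c.snd ≫ G.t := fun c => by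
    rw [Category.assoc, Category.assoc, stabι_t, stabι_s]; exact ⟨c.condition, c.condition⟩
  refine IsPullback.of_isLimit' ⟨by rw [conj, stabLift_toU, mul_s, inv_s]⟩ (PullbackCone.IsLimit.mk _
    (fun c => pullback.lift (stabLift G (mul G (mul G (c.snd ≫ G.i) (c.fst ≫ stabι G)
        ((inv_s G c.snd).trans (hx c).1.symm)) c.snd ((mul_s G _ _ _).trans (hx c).2)) (by simp)) c.snd
        (by rw [stabLift_toU, mul_s]))
    ?_ ?_ ?_)
  · intro c
    apply stab_ext
    rw [conj, Category.assoc, stabLift_ι, comp_mul]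
    refine (mul_congr G (α' := mul G (c.fst ≫ stabι G) c.snd (hx c).2) ?_
      (by rw [← Category.assoc, pullback.lift_snd]) _ (by simp)).trans (cancel_right G _ c.snd (hx c).2)
    rw [comp_mul]
    refine (mul_congr G (pullback.lift_snd _ _ _)
      (by rw [← Category.assoc, pullback.lift_fst, stabLift_ι]) _ (by simp)).trans ?_
    rw [← mul_assoc' G c.snd _ c.snd (by simp) ((mul_s G _ _ _).trans (hx c).2)]
    exact mul_congr G (cancel_left' G c.snd _ (hx c).1.symm) rfl _ _
  · intro c
    exact pullback.lift_snd _ _ _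
  · intro c m hm₁ hm₂
    apply pullback.hom_ext
    · apply stab_ext
      rw [pullback.lift_fst, stabLift_ι]
      have h₁ : (m ≫ pullback.snd G.stabilizerToU G.s) ≫ G.s = ((m ≫ pullback.fst G.stabilizerToU G.s) ≫ stabι G) ≫ G.t := by
        simp only [Category.assoc, stabι_t, pullback.condition]
      have h₂ : ((m ≫ pullback.fst G.stabilizerToU G.s) ≫ stabι G) ≫ G.s = (m ≫ pullback.snd G.stabilizerToU G.s) ≫ G.s := by
        simp only [Category.assoc, stabι_s, pullback.condition]
      generalize hy : (m ≫ pullback.fst G.stabilizerToU G.s) ≫ stabι G = y at h₁ h₂ ⊢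
      have hc : c.fst ≫ stabι G = mul G (mul G c.snd y (hm₂ ▸ h₁)) (c.snd ≫ G.i)
          (by rw [mul_s, inv_t, ← hm₂]; exact h₂) := by
        rw [← hm₁, conj, Category.assoc, stabLift_ι, comp_mul]
        refine mul_congr G ?_ (by rw [← Category.assoc, hm₂]) _ _
        rw [comp_mul]
        exact mul_congr G hm₂ (by rw [← Category.assoc, hy]) _ _
      have h₁' : c.snd ≫ G.s = y ≫ G.t := hm₂ ▸ h₁
      have h₂' : y ≫ G.s = c.snd ≫ G.s := hm₂ ▸ h₂
      refine ((mul_congr G ?_ rfl _ (by simp)).trans (cancel_right' G y c.snd h₂')).symm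
      refine (mul_congr G rfl hc _ (by simp)).trans ?_
      rw [← mul_assoc' G (c.snd ≫ G.i) (mul G c.snd y h₁') (c.snd ≫ G.i) (by simp) (by simp [h₂'])]
      exact mul_congr G (cancel_left G c.snd y h₁') rfl _ _
    · rw [pullback.lift_snd, hm₂]

/-- A square over the second projection can be turned around. -/
theorem exists_isPullback_swap {X U R : Scheme.{u}} {f : X ⟶ U} {a b : R ⟶ U}
    {φ : pullback f a ⟶ X} (h : IsPullback φ (pullback.snd f a) f b) :
    ∃ ψ : pullback f b ⟶ X, IsPullback ψ (pullback.snd f b) f a :=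
  ⟨h.isoPullback.inv ≫ pullback.fst f a,
    IsPullback.of_iso_pullback ⟨by rw [Category.assoc, pullback.condition, ← Category.assoc,
      h.isoPullback_inv_snd]⟩ h.isoPullback.symm rfl (h.isoPullback_inv_snd)⟩

end L02.GrpdSp
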